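import Mathlib.CategoryTheory.Abelian.RightDerived
import Mathlib.Algebra.Homology.HomologySequenceLemmas
import Mathlib.Algebra.Homology.HomologicalComplexAbelian
import Mathlib.CategoryTheory.Abelian.FunctorCategory

/-! # Derived functors of a sequence of functors which is short exact on injectives -/

set_option autoImplicit false
universe v v' u u'

open CategoryTheory CategoryTheory.Limits HomologicalComplex

namespace GrothLib.FunSES25

variable {A : Type u} [Category.{v} A] [Abelian A] [HasInjectiveResolutions A]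
  {B : Type u'} [Category.{v'} B] [Abelian B]
  {T S G : A ⥤ B} [T.Additive] [S.Additive] [G.Additive] (ι : T ⟶ S) (π : S ⟶ G) (w : ι ≫ π = 0)

/-- The sequence at an object. -/
abbrev seqAt (X : A) : ShortComplex B :=
  ShortComplex.mk (ι.app X) (π.app X) (by rw [← NatTrans.comp_app, w, NatTrans.app_zero])

variable (hse : ∀ I : A, Injective I → (seqAt ι π w I).ShortExact)

/-- The sequence at a complex. -/
noncomputable abbrev cxSeq (K : CochainComplex A ℕ) : ShortComplex (CochainComplex B ℕ) :=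
  ShortComplex.mk ((NatTrans.mapHomologicalComplex ι (ComplexShape.up ℕ)).app K)
    ((NatTrans.mapHomologicalComplex π (ComplexShape.up ℕ)).app K)
    (by ext i; exact (seqAt ι π w (K.X i)).zero)

include hse in
theorem cxSeq_shortExact (K : CochainComplex A ℕ) [∀ i, Injective (K.X i)] :
    (cxSeq ι π w K).ShortExact :=
  shortExact_of_degreewise_shortExact _ (fun i => hse (K.X i) inferInstance)

/-- The map of sequences induced by a map of complexes. -/
@[simps]
noncomputable def cxSeqMap {K L : CochainComplex A ℕ} (φ : K ⟶ L) : cxSeq ι π w K ⟶ cxSeq ι π w L where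
  τ₁ := (T.mapHomologicalComplex _).map φ
  τ₂ := (S.mapHomologicalComplex _).map φ
  τ₃ := (G.mapHomologicalComplex _).map φ
  comm₁₂ := (NatTrans.mapHomologicalComplex ι (ComplexShape.up ℕ)).naturality φ
  comm₂₃ := (NatTrans.mapHomologicalComplex π (ComplexShape.up ℕ)).naturality φ

omit [Abelian B] in
lemma square_paste {a₀ a₁ b₀ b₁ c₀ c₁ d₀ d₁ : B} {r₁ : a₀ ⟶ a₁}
    {α₀ : a₀ ⟶ b₀} {α₁ : a₁ ⟶ b₁} {p : b₀ ⟶ b₁} {μ₀ : b₀ ⟶ c₀} {μ₁ : b₁ ⟶ c₁} {q : c₀ ⟶ c₁}
    {γ₀ : c₀ ⟶ d₀} {γ₁ : c₁ ⟶ d₁} {r₂ : d₀ ⟶ d₁}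
    (h₁ : r₁ ≫ α₁ = α₀ ≫ p) (h₃ : p ≫ μ₁ = μ₀ ≫ q) (h₂ : γ₀ ≫ r₂ = q ≫ γ₁) :
    r₁ ≫ α₁ ≫ μ₁ ≫ γ₁ = (α₀ ≫ μ₀ ≫ γ₀) ≫ r₂ := by
  rw [reassoc_of% h₁, reassoc_of% h₃, Category.assoc, Category.assoc, h₂]

omit [Abelian B] in
lemma zero_paste {a b z₀ z₁ h₀ h₁ r₀ r₁ : B} {t : a ⟶ z₀} {t' : b ⟶ z₁} {p : a ⟶ b} {c : z₀ ⟶ z₁}
    {η₀ : z₀ ⟶ h₀} {η₁ : z₁ ⟶ h₁} {m : h₀ ⟶ h₁} {α : r₀ ≅ h₀} {β : r₁ ≅ h₁}
    (e : t ≫ c = p ≫ t') (hm : η₀ ≫ m = c ≫ η₁) :
    (t ≫ η₀ ≫ α.inv) ≫ α.hom ≫ m ≫ β.inv = p ≫ t' ≫ η₁ ≫ β.inv := by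
  simp [reassoc_of% hm, reassoc_of% e]

/-- The connecting transformation. -/
noncomputable def δ (n : ℕ) : G.rightDerived n ⟶ T.rightDerived (n + 1) where
  app F := ((injectiveResolution F).isoRightDerivedObj G n).hom ≫
    (cxSeq_shortExact ι π w hse (injectiveResolution F).cocomplex).δ n (n + 1) rfl ≫
    ((injectiveResolution F).isoRightDerivedObj T (n + 1)).inv
  naturality {F F'} f := by
    let I := injectiveResolution F
    let I' := injectiveResolution F'
    let φ := InjectiveResolution.desc f I' I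
    have hφ : I.ι.f 0 ≫ φ.f 0 = f ≫ I'.ι.f 0 := by
      rw [← HomologicalComplex.comp_f, InjectiveResolution.desc_commutes]
      simp
    have h₁ := InjectiveResolution.isoRightDerivedObj_hom_naturality f I I' φ hφ G n
    have h₂ := InjectiveResolution.isoRightDerivedObj_inv_naturality f I I' φ hφ T (n + 1)
    have h₃ : homologyMap ((G.mapHomologicalComplex _).map φ) n ≫
          (cxSeq_shortExact ι π w hse I'.cocomplex).δ n (n + 1) rfl =
        (cxSeq_shortExact ι π w hse I.cocomplex).δ n (n + 1) rfl ≫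
          homologyMap ((T.mapHomologicalComplex _).map φ) (n + 1) :=
      (HomologySequence.δ_naturality (cxSeqMap ι π w φ) (cxSeq_shortExact ι π w hse I.cocomplex)
        (cxSeq_shortExact ι π w hse I'.cocomplex) n (n + 1) rfl).symm
    exact square_paste h₁ h₃ h₂

theorem δ_app (F : A) (n : ℕ) :
    (δ ι π w hse n).app F = ((injectiveResolution F).isoRightDerivedObj G n).hom ≫
      (cxSeq_shortExact ι π w hse (injectiveResolution F).cocomplex).δ n (n + 1) rfl ≫
      ((injectiveResolution F).isoRightDerivedObj T (n + 1)).inv := rfl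

theorem rightDerived_comp_δ (F : A) (n : ℕ) :
    (NatTrans.rightDerived π n).app F ≫ (δ ι π w hse n).app F = 0 := by
  rw [δ_app, InjectiveResolution.rightDerived_app_eq π (injectiveResolution F) n, Category.assoc,
    Category.assoc, Iso.inv_hom_id_assoc]
  exact (congrArg ((((injectiveResolution F).isoRightDerivedObj S n).hom) ≫ ·)
    ((Category.assoc _ _ _).symm.trans ((congrArg (· ≫ _)
      ((cxSeq_shortExact ι π w hse (injectiveResolution F).cocomplex).comp_δ n (n + 1) rfl)).trans
        zero_comp))).trans comp_zero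

theorem exact₃ (F : A) (n : ℕ) :
    (ShortComplex.mk _ _ (rightDerived_comp_δ ι π w hse F n)).Exact := by
  let I := injectiveResolution F
  have c₁ : (NatTrans.rightDerived π n).app F ≫ (I.isoRightDerivedObj G n).hom =
      (I.isoRightDerivedObj S n).hom ≫ homologyMap (cxSeq ι π w I.cocomplex).g n := by
    rw [InjectiveResolution.rightDerived_app_eq π I n, Category.assoc, Category.assoc, Iso.inv_hom_id,
      Category.comp_id]
    rfl
  have c₂ : (δ ι π w hse n).app F ≫ (I.isoRightDerivedObj T (n + 1)).hom =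
      (I.isoRightDerivedObj G n).hom ≫ (cxSeq_shortExact ι π w hse I.cocomplex).δ n (n + 1) rfl := by
    rw [δ_app, Category.assoc, Category.assoc]
    exact congrArg ((I.isoRightDerivedObj G n).hom ≫ ·)
      ((congrArg ((cxSeq_shortExact ι π w hse I.cocomplex).δ n (n + 1) rfl ≫ ·)
        (I.isoRightDerivedObj T (n + 1)).inv_hom_id).trans (Category.comp_id _))
  exact (ShortComplex.exact_iff_of_iso (ShortComplex.isoMk (I.isoRightDerivedObj S n)
    (I.isoRightDerivedObj G n) (I.isoRightDerivedObj T (n + 1)) c₁.symm c₂.symm)).2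
    ((cxSeq_shortExact ι π w hse I.cocomplex).homology_exact₃ n (n + 1) rfl)

theorem epi_δ_app (F : A) (n : ℕ) (h : IsZero ((S.rightDerived (n + 1)).obj F)) :
    Epi ((δ ι π w hse n).app F) := by
  let I := injectiveResolution F
  have h' : IsZero ((cxSeq ι π w I.cocomplex).X₂.homology (n + 1)) :=
    h.of_iso (I.isoRightDerivedObj S (n + 1)).symm
  have := ((cxSeq_shortExact ι π w hse I.cocomplex).homology_exact₁ n (n + 1) rfl).epi_f
    (h'.eq_of_tgt _ _)
  rw [δ_app]
  exact @epi_comp _ _ _ _ _ _ inferInstance _ (@epi_comp _ _ _ _ _ _ this _ inferInstance)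

theorem isIso_δ_app (F : A) (n : ℕ) (h₀ : IsZero ((S.rightDerived n).obj F))
    (h₁ : IsZero ((S.rightDerived (n + 1)).obj F)) : IsIso ((δ ι π w hse n).app F) := by
  have := epi_δ_app ι π w hse F n h₁
  have := (exact₃ ι π w hse F n).mono_g (h₀.eq_of_src _ _)
  exact isIso_of_mono_of_epi _

theorem toRightDerivedZero_naturality (F : A) :
    S.toRightDerivedZero.app F ≫ (NatTrans.rightDerived π 0).app F =
      π.app F ≫ G.toRightDerivedZero.app F := by
  let I := injectiveResolution F
  have e : I.toRightDerivedZero' S ≫ cyclesMap ((NatTrans.mapHomologicalComplex π _).app I.cocomplex) 0 =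
      π.app F ≫ I.toRightDerivedZero' G := by
    rw [← cancel_mono (iCycles _ _), Category.assoc, Category.assoc, cyclesMap_i,
      InjectiveResolution.toRightDerivedZero'_comp_iCycles_assoc,
      InjectiveResolution.toRightDerivedZero'_comp_iCycles]
    exact π.naturality (I.ι.f 0)
  rw [I.toRightDerivedZero_eq, I.toRightDerivedZero_eq, InjectiveResolution.rightDerived_app_eq π I 0]
  exact zero_paste e (homologyπ_naturality ((NatTrans.mapHomologicalComplex π _).app I.cocomplex) 0)

/-- The natural map `G ⟶ R¹T`. -/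
noncomputable abbrev δ₀ : G ⟶ T.rightDerived 1 := G.toRightDerivedZero ≫ δ ι π w hse 0

theorem π_comp_δ₀ : π ≫ δ₀ ι π w hse = 0 := by
  ext F
  change π.app F ≫ G.toRightDerivedZero.app F ≫ (δ ι π w hse 0).app F = 0
  rw [← Category.assoc, ← toRightDerivedZero_naturality, Category.assoc, rightDerived_comp_δ, comp_zero]

variable [PreservesFiniteLimits S] [PreservesFiniteLimits G]

theorem exact_δ₀ (F : A) :
    (ShortComplex.mk (π.app F) ((δ₀ ι π w hse).app F)
      (by rw [← NatTrans.comp_app, π_comp_δ₀, NatTrans.app_zero])).Exact :=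
  (ShortComplex.exact_iff_of_iso (ShortComplex.isoMk
    (S₁ := ShortComplex.mk (π.app F) ((δ₀ ι π w hse).app F)
      (by rw [← NatTrans.comp_app, π_comp_δ₀, NatTrans.app_zero]))
    (S₂ := ShortComplex.mk _ _ (rightDerived_comp_δ ι π w hse F 0)) (asIso (S.toRightDerivedZero.app F))
    (asIso (G.toRightDerivedZero.app F)) (Iso.refl _)
    (toRightDerivedZero_naturality π F) (by simp [δ₀]))).2 (exact₃ ι π w hse F 0)

/-- `coker π ≅ R¹T` when `R¹S = 0`. -/
noncomputable def cokernelIso (h : ∀ F : A, IsZero ((S.rightDerived 1).obj F)) :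
    cokernel π ≅ T.rightDerived 1 :=
  let d := cokernel.desc π (δ₀ ι π w hse) (π_comp_δ₀ ι π w hse)
  have : ∀ F, IsIso (d.app F) := fun F => by
    have := epi_δ_app ι π w hse F 0 (h F)
    have he : Epi ((δ₀ ι π w hse).app F) := by
      change Epi (G.toRightDerivedZero.app F ≫ (δ ι π w hse 0).app F)
      infer_instance
    have h₁ := (exact_δ₀ ι π w hse F).gIsCokernel
    have h₂ := isColimitCoforkMapOfIsColimit' ((evaluation A B).obj F) (cokernel.condition π) (cokernelIsCokernel π)
    have e : d.app F = (h₂.coconePointUniqueUpToIso h₁).hom := by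
      apply Cofork.IsColimit.hom_ext h₂
      refine Eq.trans ?_ (h₂.comp_coconePointUniqueUpToIso_hom h₁ WalkingParallelPair.one).symm
      exact congrArg (fun t => t.app F) (cokernel.π_desc π (δ₀ ι π w hse) (π_comp_δ₀ ι π w hse))
    rw [e]
    infer_instance
  have : IsIso d := NatIso.isIso_of_isIso_app d
  asIso d

end GrothLib.FunSES25
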